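import Groth.Prelude.Def_SpSeq
import Groth.Agent.Lib.SpSeqEasy8.Basic
import Mathlib.Algebra.Category.ModuleCat.Abelian
import Mathlib.RingTheory.Length
import Mathlib.Algebra.Homology.ShortComplex.ModuleCat

/-!
# Lengths on the pages of a spectral sequence of modules
-/

set_option autoImplicit false

universe v u

open CategoryTheory CategoryTheory.Limits

noncomputable section

namespace Groth.Agent.LenSS8

variable {A : Type u} [Ring A]

/-- The length as a natural number. -/
def len (X : ModuleCat.{v} A) : ℕ := (Module.length A X).toNat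

theorem len_iso {X Y : ModuleCat.{v} A} (e : X ≅ Y) : len X = len Y := by
  rw [len, len, e.toLinearEquiv.length_eq]

theorem fl_mono {X Y : ModuleCat.{v} A} (f : X ⟶ Y) [Mono f]
    (h : IsFiniteLength A Y) : IsFiniteLength A X := by
  rw [isFiniteLength_iff_isNoetherian_isArtinian] at h ⊢
  obtain ⟨h1, h2⟩ := h
  exact ⟨isNoetherian_of_injective f.hom ((ModuleCat.mono_iff_injective f).1 inferInstance),
    isArtinian_of_injective f.hom ((ModuleCat.mono_iff_injective f).1 inferInstance)⟩

theorem fl_epi {X Y : ModuleCat.{v} A} (f : X ⟶ Y) [Epi f]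
    (h : IsFiniteLength A X) : IsFiniteLength A Y := by
  rw [isFiniteLength_iff_isNoetherian_isArtinian] at h ⊢
  obtain ⟨h1, h2⟩ := h
  have hs := (ModuleCat.epi_iff_surjective f).1 inferInstance
  exact ⟨isNoetherian_of_surjective f.hom (LinearMap.range_eq_top.2 hs), isArtinian_of_surjective X f.hom hs⟩

theorem len_isZero {X : ModuleCat.{v} A} (h : IsZero X) : len X = 0 := by
  haveI := ModuleCat.subsingleton_of_isZero h
  simp [len, Module.length_eq_zero]

theorem isZero_of_len_eq_zero {X : ModuleCat.{v} A} (h : IsFiniteLength A X) (h0 : len X = 0) : IsZero X := by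
  rcases ENat.toNat_eq_zero.1 h0 with h' | h'
  · haveI := Module.length_eq_zero_iff.1 h'
    exact ModuleCat.isZero_of_subsingleton X
  · obtain ⟨h1, h2⟩ := isFiniteLength_iff_isNoetherian_isArtinian.1 h
    exact absurd h' Module.length_ne_top

theorem len_ses (S : ShortComplex (ModuleCat.{v} A)) (hS : S.ShortExact)
    (h : IsFiniteLength A S.X₂) : len S.X₂ = len S.X₁ + len S.X₃ := by
  have e := Module.length_eq_add_of_exact S.f.hom S.g.hom hS.moduleCat_injective_f hS.moduleCat_surjective_g
    ((ShortComplex.ShortExact.moduleCat_exact_iff_function_exact S).1 hS.exact)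
  obtain ⟨h1, h2⟩ := isFiniteLength_iff_isNoetherian_isArtinian.1 h
  have hne : Module.length A S.X₂ ≠ ⊤ := Module.length_ne_top
  simp only [len]
  rw [e, ENat.toNat_add] <;> (intro ht; rw [e, ht] at hne; simp at hne)

theorem fl_homology (S : ShortComplex (ModuleCat.{v} A)) (h : IsFiniteLength A S.X₂) :
    IsFiniteLength A S.homology :=
  fl_epi S.homologyπ (fl_mono S.iCycles h)

/-- Decomposition of the middle term of a complex: homology plus the coimages of the two maps. -/
theorem len_decomp (S : ShortComplex (ModuleCat.{v} A)) (h : IsFiniteLength A S.X₂) :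
    len S.X₂ = len S.homology + len (Abelian.coimage S.g) + len (Abelian.coimage S.f) := by
  have h1 : (ShortComplex.mk S.iCycles (cokernel.π S.iCycles) (cokernel.condition _)).ShortExact :=
    { exact := ShortComplex.exact_cokernel _ }
  let e1 : cokernel S.iCycles ≅ Abelian.coimage S.g :=
    cokernel.mapIso _ _ (IsLimit.conePointUniqueUpToIso S.cyclesIsKernel (limit.isLimit (parallelPair S.g 0))) (Iso.refl _)
      (by rw [Iso.refl_hom, Category.comp_id]
          exact (IsLimit.conePointUniqueUpToIso_hom_comp S.cyclesIsKernel (limit.isLimit (parallelPair S.g 0))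
            WalkingParallelPair.zero).symm)
  have h2 : (ShortComplex.mk (kernel.ι S.homologyπ) S.homologyπ (kernel.condition _)).ShortExact :=
    { exact := ShortComplex.exact_kernel _ }
  have hex : (ShortComplex.mk S.toCycles S.homologyπ S.toCycles_comp_homologyπ).Exact :=
    ShortComplex.exact_of_g_is_cokernel _ S.homologyIsCokernel
  let l : S.X₁ ⟶ kernel S.homologyπ := kernel.lift S.homologyπ S.toCycles S.toCycles_comp_homologyπ
  haveI : Epi l := (ShortComplex.exact_iff_epi_kernel_lift _).1 hex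
  haveI := strongEpi_of_epi l
  haveI := strongEpi_of_epi (Abelian.coimage.π S.f)
  let e2 : kernel S.homologyπ ≅ Abelian.coimage S.f :=
    image.isoStrongEpiMono (f := S.f) l (kernel.ι S.homologyπ ≫ S.iCycles)
      (by rw [← Category.assoc, kernel.lift_ι, ShortComplex.toCycles_i]) ≪≫
    (image.isoStrongEpiMono (f := S.f) (Abelian.coimage.π S.f) (Abelian.factorThruCoimage S.f)
      (Abelian.coimage.fac S.f)).symm
  have t1 := len_ses _ h1 h
  have t2 := len_ses _ h2 (fl_mono S.iCycles h)
  rw [len_iso e1] at t1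
  rw [len_iso e2] at t2
  rw [t1, t2]
  ring

theorem eq_zero_of_len_coimage {X Y : ModuleCat.{v} A} (f : X ⟶ Y) (h : IsFiniteLength A (Abelian.coimage f :))
    (h0 : len (Abelian.coimage f) = 0) : f = 0 := by
  rw [← Abelian.coimage.fac f, (isZero_of_len_eq_zero h h0).eq_of_tgt (Abelian.coimage.π f) 0, zero_comp]

variable {r₀ : ℤ} (E : CohomologicalSpectralSequence (ModuleCat.{v} A) r₀) (r : ℤ) (hr : r₀ ≤ r)

/-- The short complex at a position. -/
abbrev scAt (pq : ℤ × ℤ) : ShortComplex (ModuleCat.{v} A) :=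
  (E.page r hr).sc' (pq - (r, 1 - r)) pq (pq + (r, 1 - r))

/-- The homology at a position is the next page. -/
def nextIso (pq : ℤ × ℤ) : (scAt E r hr pq).homology ≅ (E.page (r + 1) (Int.le_add_one hr)).X pq :=
  ((E.page r hr).homologyIsoSc' (pq - (r, 1 - r)) pq (pq + (r, 1 - r))
    ((ComplexShape.up' ((r, 1 - r) : ℤ × ℤ)).prev_eq' (sub_add_cancel pq _))
    ((ComplexShape.up' ((r, 1 - r) : ℤ × ℤ)).next_eq' rfl)).symm ≪≫ E.iso r (r + 1) pq rfl hr

theorem fl_succ (pq : ℤ × ℤ) (h : IsFiniteLength A ((E.page r hr).X pq)) :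
    IsFiniteLength A ((E.page (r + 1) (Int.le_add_one hr)).X pq) :=
  fl_epi (nextIso E r hr pq).hom (fl_homology (scAt E r hr pq) h)

theorem len_succ (pq : ℤ × ℤ) (h : IsFiniteLength A ((E.page r hr).X pq)) :
    len ((E.page r hr).X pq) = len ((E.page (r + 1) (Int.le_add_one hr)).X pq) +
      len (Abelian.coimage ((E.page r hr).d pq (pq + (r, 1 - r)))) +
      len (Abelian.coimage ((E.page r hr).d (pq - (r, 1 - r)) pq)) := by
  refine (len_decomp (scAt E r hr pq) h).trans ?_
  rw [len_iso (nextIso E r hr pq)]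
  rfl

theorem fl_page (pq : ℤ × ℤ) (h : IsFiniteLength A ((E.page r₀ le_rfl).X pq)) :
    ∀ (k : ℕ) (hk : r₀ ≤ r₀ + k), IsFiniteLength A ((E.page (r₀ + k) hk).X pq) := by
  intro k
  induction k with
  | zero =>
    intro hk
    exact fl_epi (E.pageXIsoOfEq pq (r₀ + ((0 : ℕ) : ℤ)) r₀ (by simp) hk).inv h
  | succ k ih =>
    intro hk
    exact fl_epi (E.pageXIsoOfEq pq (r₀ + ((k + 1 : ℕ) : ℤ)) (r₀ + k + 1) (by push_cast; omega) hk).inv
      (fl_succ E (r₀ + k) (by omega) pq (ih (by omega)))

theorem fl_page' (pq : ℤ × ℤ) (h : IsFiniteLength A ((E.page r₀ le_rfl).X pq)) :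
    IsFiniteLength A ((E.page r hr).X pq) :=
  fl_epi (E.pageXIsoOfEq pq (r₀ + ((r - r₀).toNat : ℤ)) r (by omega) (by omega)).hom (fl_page E pq h _ (by omega))

theorem len_antitone (pq : ℤ × ℤ) (h : IsFiniteLength A ((E.page r₀ le_rfl).X pq)) (k : ℤ) (hk : r₀ ≤ k)
    (hrk : r ≤ k) : len ((E.page k hk).X pq) ≤ len ((E.page r hr).X pq) := by
  obtain ⟨n, rfl⟩ : ∃ n : ℕ, k = r + n := ⟨(k - r).toNat, by omega⟩
  induction n with
  | zero => exact (len_iso (E.pageXIsoOfEq pq (r + ((0 : ℕ) : ℤ)) r (by simp) hk)).le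
  | succ n ih =>
    refine le_trans ?_ (ih (by omega) (by omega))
    rw [len_iso (E.pageXIsoOfEq pq (r + ((n + 1 : ℕ) : ℤ)) (r + n + 1) (by push_cast; omega) hk),
      len_succ E (r + n) (by omega) pq (fl_page' E (r + n) (by omega) pq h)]
    omega

/-- If the length at a position does not drop, the differentials vanish. -/
theorem d_eq_zero (pq : ℤ × ℤ) (h : IsFiniteLength A ((E.page r₀ le_rfl).X pq))
    (hle : len ((E.page r hr).X pq) ≤ len ((E.page (r + 1) (Int.le_add_one hr)).X pq))
    (hsrc : IsFiniteLength A ((E.page r₀ le_rfl).X (pq - (r, 1 - r)))) :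
    (E.page r hr).d (pq - (r, 1 - r)) pq = 0 ∧ (E.page r hr).d pq (pq + (r, 1 - r)) = 0 := by
  have e := len_succ E r hr pq (fl_page' E r hr pq h)
  refine ⟨eq_zero_of_len_coimage _ (fl_epi (Abelian.coimage.π _) (fl_page' E r hr _ hsrc)) (by omega),
    eq_zero_of_len_coimage _ (fl_epi (Abelian.coimage.π _) (fl_page' E r hr _ h)) (by omega)⟩

end Groth.Agent.LenSS8
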